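import Cfsg.Agent.Lib.Spor.PermCert

/-!
Checks on long ranges, split into pieces.
-/

set_option autoImplicit false

namespace Cfsg.Agent.Spor.CoAmal.Cert

open Cfsg.Agent.Spor.CC

theorem range_join {f : ℕ → Bool} {st a b n : ℕ} (h1 : rangeOK f st a = true) (h2 : rangeOK f (st + a) b = true)
    (hn : a + b = n) : rangeOK f st n = true := by
  subst hn
  refine List.all_eq_true.2 fun j hj => ?_
  rw [List.mem_range] at hj
  show f (st + j) = true
  rcases lt_or_ge j a with h | h
  · exact all_range (p := f) h1 (Nat.le_add_right st j) (by omega)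
  · exact all_range (p := f) h2 (by omega) (by omega)

theorem range_nil (f : ℕ → Bool) (st : ℕ) : rangeOK f st 0 = true := rfl

/-- an orbit is checked when all its points are -/
theorem orb_join {T : ℕ → ℕ → ℕ} {ng : ℕ} {O : Orb} (h : rangeOK (orbOK1 T ng O) 0 O.k = true) :
    orbOK T ng O = true :=
  List.all_eq_true.2 fun _ hj =>
    all_range (p := orbOK1 T ng O) h (Nat.zero_le _) (by simpa using List.mem_range.1 hj)

/-- one level of a chain -/
theorem chain_join {T : ℕ → ℕ → ℕ} {ng n : ℕ} {O : Orb} {rest : List Orb} {bs : List ℕ}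
    (h0 : (Nat.blt O.b n && lettersOK ng O.ws && fixOK T ng O.ws bs) = true) (h1 : orbOK T ng O = true)
    (h2 : chainOK T ng n rest (O.b :: bs) = true) : chainOK T ng n (O :: rest) bs = true := by
  simp only [Bool.and_eq_true] at h0
  simp only [chainOK, h0.1.1, h0.1.2, h0.2, h1, h2, Bool.and_self, Bool.and_true]

end Cfsg.Agent.Spor.CoAmal.Cert
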