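import Cfsg.Agent.Lib.Spor.CoAmal.Cert.Rel
import Cfsg.Agent.Lib.Spor.CoAmal.Cert.Split

/-!
Table checks on a range of points.
-/

set_option autoImplicit false
set_option maxRecDepth 100000

namespace Cfsg.Agent.Spor.CoAmal.Cert

open Cfsg.Agent.Spor.CC

theorem inv3 : invOK rows 7 5346 4011 1335 = true := by decide +kernel

theorem relAll3p0 : rangeOK (relAll) 4011 335 = true := by decide +kernel

theorem relAll3p1 : rangeOK (relAll) 4346 335 = true := by decide +kernel

theorem relAll3p2 : rangeOK (relAll) 4681 335 = true := by decide +kernel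

theorem relAll3p3 : rangeOK (relAll) 5016 330 = true := by decide +kernel

theorem loop3 : loopOK rows 7 relK 4011 1335 = true :=
  relL_eq ▸ loop_of (fun u => rel_eq u) (range_join (range_join (range_join relAll3p0 relAll3p1 (rfl : 335 + 335 = 670)) relAll3p2 (rfl : 670 + 335 = 1005)) relAll3p3 (rfl : 1005 + 330 = 1335))

end Cfsg.Agent.Spor.CoAmal.Cert
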