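import Cfsg.Agent.Lib.Spor.CoAmal.Cert.Loops0
import Cfsg.Agent.Lib.Spor.CoAmal.Cert.Loops1
import Cfsg.Agent.Lib.Spor.CoAmal.Cert.Loops2
import Cfsg.Agent.Lib.Spor.CoAmal.Cert.Loops3
import Cfsg.Agent.Lib.Spor.CoAmal.Cert.Chain

/-!
The checked table and chain.
-/

set_option autoImplicit false
set_option maxRecDepth 100000

namespace Cfsg.Agent.Spor.CoAmal.Cert

open Cfsg.Agent.Spor.CC

theorem tab_valid : tab.Valid := by
  intro u hu x hx
  replace hu : u < 5346 := hu
  by_cases h0 : u < 1337
  · exact invOK_spec inv0 (by omega) h0 hx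
  by_cases h1 : u < 2674
  · exact invOK_spec inv1 (by omega) h1 hx
  by_cases h2 : u < 4011
  · exact invOK_spec inv2 (by omega) h2 hx
  exact invOK_spec inv3 (by omega) hu hx

theorem tab_loops : tab.Loops relK := by
  intro u hu r hr
  replace hu : u < 5346 := hu
  by_cases h0 : u < 1337
  · exact loopOK_spec loop0 (by omega) h0 hr
  by_cases h1 : u < 2674
  · exact loopOK_spec loop1 (by omega) h1 hr
  by_cases h2 : u < 4011
  · exact loopOK_spec loop2 (by omega) h2 hr
  exact loopOK_spec loop3 (by omega) hu hr

/-- the base -/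
def cert : Cert where
  P := tab
  valid := tab_valid
  hng := rfl
  loops := tab_loops
  top := lev0
  rest := [lev1, lev2, lev3, lev4]
  top_b := rfl
  top_pos := by decide
  chain_ok := by decide +kernel
  chain_size := by decide +kernel
  chain_k := by decide +kernel
  rest_six := by decide +kernel

end Cfsg.Agent.Spor.CoAmal.Cert
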