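import Cfsg.Agent.Lib.Spor.CoAmal.Cert.Eqs
import Cfsg.Agent.Lib.Spor.CoAmal.Cert.Tab
import Cfsg.Agent.Lib.Spor.CoAmal.Cert.Split
import Cfsg.Agent.Lib.Spor.CoAmal.Cert.Node1

/-!
Checks for a node.
-/

set_option autoImplicit false
set_option maxRecDepth 100000

namespace Cfsg.Agent.Spor.CoAmal.Cert

open Cfsg.Agent.Spor.CC

theorem forest1p0 : rangeOK (ndOK1 rows allF (nodeSet allF redir live) node1) 0 891 = true := by decide +kernel

theorem forest1p1 : rangeOK (ndOK1 rows allF (nodeSet allF redir live) node1) 891 891 = true := by decide +kernel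

theorem forest1p2 : rangeOK (ndOK1 rows allF (nodeSet allF redir live) node1) 1782 891 = true := by decide +kernel

theorem forest1p3 : rangeOK (ndOK1 rows allF (nodeSet allF redir live) node1) 2673 891 = true := by decide +kernel

theorem forest1p4 : rangeOK (ndOK1 rows allF (nodeSet allF redir live) node1) 3564 891 = true := by decide +kernel

theorem forest1p5 : rangeOK (ndOK1 rows allF (nodeSet allF redir live) node1) 4455 891 = true := by decide +kernel

theorem forest1 : rangeOK (ndOK1 rows allF (nodeSet allF redir live) node1) 0 5346 = true :=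
  (range_join (range_join (range_join (range_join (range_join forest1p0 forest1p1 (rfl : 891 + 891 = 1782)) forest1p2 (rfl : 1782 + 891 = 2673)) forest1p3 (rfl : 2673 + 891 = 3564)) forest1p4 (rfl : 3564 + 891 = 4455)) forest1p5 (rfl : 4455 + 891 = 5346))

theorem cover1 : coverOK node1 5346 = true := by decide +kernel

theorem fix1 : fixS allF node1 = true := by decide +kernel

theorem slp1 : slpOK rows bases node1.slp (node1.S.map fun k => wDecode (allF.getD k noFct).w2) = true := by
  decide +kernel

theorem cin1 : chainIn allF node1 = true := by decide +kernel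

theorem orb_node1Lev0p0 : rangeOK (orbOK1 rows 7 node1Lev0) 0 600 = true := by decide +kernel

theorem orb_node1Lev0p1 : rangeOK (orbOK1 rows 7 node1Lev0) 600 600 = true := by decide +kernel

theorem orb_node1Lev0p2 : rangeOK (orbOK1 rows 7 node1Lev0) 1200 600 = true := by decide +kernel

theorem orb_node1Lev0p3 : rangeOK (orbOK1 rows 7 node1Lev0) 1800 600 = true := by decide +kernel

theorem orb_node1Lev0p4 : rangeOK (orbOK1 rows 7 node1Lev0) 2400 600 = true := by decide +kernel

theorem orb_node1Lev0p5 : rangeOK (orbOK1 rows 7 node1Lev0) 3000 600 = true := by decide +kernel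

theorem orb_node1Lev0p6 : rangeOK (orbOK1 rows 7 node1Lev0) 3600 495 = true := by decide +kernel

theorem orb_node1Lev0 : orbOK rows 7 node1Lev0 = true :=
  orb_join (O := node1Lev0) (range_join (range_join (range_join (range_join (range_join (range_join orb_node1Lev0p0 orb_node1Lev0p1 (rfl : 600 + 600 = 1200)) orb_node1Lev0p2 (rfl : 1200 + 600 = 1800)) orb_node1Lev0p3 (rfl : 1800 + 600 = 2400)) orb_node1Lev0p4 (rfl : 2400 + 600 = 3000)) orb_node1Lev0p5 (rfl : 3000 + 600 = 3600)) orb_node1Lev0p6 (rfl : 3600 + 495 = 4095))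

theorem orb_node1Lev1p0 : rangeOK (orbOK1 rows 7 node1Lev1) 0 600 = true := by decide +kernel

theorem orb_node1Lev1p1 : rangeOK (orbOK1 rows 7 node1Lev1) 600 424 = true := by decide +kernel

theorem orb_node1Lev1 : orbOK rows 7 node1Lev1 = true :=
  orb_join (O := node1Lev1) (range_join orb_node1Lev1p0 orb_node1Lev1p1 (rfl : 600 + 424 = 1024))

theorem orb_node1Lev2p0 : rangeOK (orbOK1 rows 7 node1Lev2) 0 20 = true := by decide +kernel

theorem orb_node1Lev2 : orbOK rows 7 node1Lev2 = true :=
  orb_join (O := node1Lev2) orb_node1Lev2p0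

theorem orb_node1Lev3p0 : rangeOK (orbOK1 rows 7 node1Lev3) 0 3 = true := by decide +kernel

theorem orb_node1Lev3 : orbOK rows 7 node1Lev3 = true :=
  orb_join (O := node1Lev3) orb_node1Lev3p0

theorem cok1 : chainOK rows 7 5346 node1.chain [] = true :=
  (chain_join (by decide +kernel) orb_node1Lev0 (chain_join (by decide +kernel) orb_node1Lev1 (chain_join (by decide +kernel) orb_node1Lev2 (chain_join (by decide +kernel) orb_node1Lev3 rfl))))

theorem idx1 : chainSize node1.chain * node1.idx = 1345036492800 := by decide +kernel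

end Cfsg.Agent.Spor.CoAmal.Cert
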