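import Cfsg.Agent.Lib.Spor.CoAmal.Cert.Eqs
import Cfsg.Agent.Lib.Spor.CoAmal.Cert.Tab
import Cfsg.Agent.Lib.Spor.CoAmal.Cert.Split
import Cfsg.Agent.Lib.Spor.CoAmal.Cert.Node2

/-!
Checks for a node.
-/

set_option autoImplicit false
set_option maxRecDepth 100000

namespace Cfsg.Agent.Spor.CoAmal.Cert

open Cfsg.Agent.Spor.CC

theorem forest2p0 : rangeOK (ndOK1 rows allF (nodeSet allF redir live) node2) 0 891 = true := by decide +kernel

theorem forest2p1 : rangeOK (ndOK1 rows allF (nodeSet allF redir live) node2) 891 891 = true := by decide +kernel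

theorem forest2p2 : rangeOK (ndOK1 rows allF (nodeSet allF redir live) node2) 1782 891 = true := by decide +kernel

theorem forest2p3 : rangeOK (ndOK1 rows allF (nodeSet allF redir live) node2) 2673 891 = true := by decide +kernel

theorem forest2p4 : rangeOK (ndOK1 rows allF (nodeSet allF redir live) node2) 3564 891 = true := by decide +kernel

theorem forest2p5 : rangeOK (ndOK1 rows allF (nodeSet allF redir live) node2) 4455 891 = true := by decide +kernel

theorem forest2 : rangeOK (ndOK1 rows allF (nodeSet allF redir live) node2) 0 5346 = true :=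
  (range_join (range_join (range_join (range_join (range_join forest2p0 forest2p1 (rfl : 891 + 891 = 1782)) forest2p2 (rfl : 1782 + 891 = 2673)) forest2p3 (rfl : 2673 + 891 = 3564)) forest2p4 (rfl : 3564 + 891 = 4455)) forest2p5 (rfl : 4455 + 891 = 5346))

theorem cover2 : coverOK node2 5346 = true := by decide +kernel

theorem fix2 : fixS allF node2 = true := by decide +kernel

theorem slp2 : slpOK rows bases node2.slp (node2.S.map fun k => wDecode (allF.getD k noFct).w2) = true := by
  decide +kernel

theorem cin2 : chainIn allF node2 = true := by decide +kernel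

theorem orb_node2Lev0p0 : rangeOK (orbOK1 rows 7 node2Lev0) 0 600 = true := by decide +kernel

theorem orb_node2Lev0p1 : rangeOK (orbOK1 rows 7 node2Lev0) 600 600 = true := by decide +kernel

theorem orb_node2Lev0p2 : rangeOK (orbOK1 rows 7 node2Lev0) 1200 528 = true := by decide +kernel

theorem orb_node2Lev0 : orbOK rows 7 node2Lev0 = true :=
  orb_join (O := node2Lev0) (range_join (range_join orb_node2Lev0p0 orb_node2Lev0p1 (rfl : 600 + 600 = 1200)) orb_node2Lev0p2 (rfl : 1200 + 528 = 1728))

theorem orb_node2Lev1p0 : rangeOK (orbOK1 rows 7 node2Lev1) 0 32 = true := by decide +kernel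

theorem orb_node2Lev1 : orbOK rows 7 node2Lev1 = true :=
  orb_join (O := node2Lev1) orb_node2Lev1p0

theorem orb_node2Lev2p0 : rangeOK (orbOK1 rows 7 node2Lev2) 0 5 = true := by decide +kernel

theorem orb_node2Lev2 : orbOK rows 7 node2Lev2 = true :=
  orb_join (O := node2Lev2) orb_node2Lev2p0

theorem orb_node2Lev3p0 : rangeOK (orbOK1 rows 7 node2Lev3) 0 4 = true := by decide +kernel

theorem orb_node2Lev3 : orbOK rows 7 node2Lev3 = true :=
  orb_join (O := node2Lev3) orb_node2Lev3p0

theorem orb_node2Lev4p0 : rangeOK (orbOK1 rows 7 node2Lev4) 0 3 = true := by decide +kernel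

theorem orb_node2Lev4 : orbOK rows 7 node2Lev4 = true :=
  orb_join (O := node2Lev4) orb_node2Lev4p0

theorem cok2 : chainOK rows 7 5346 node2.chain [] = true :=
  (chain_join (by decide +kernel) orb_node2Lev0 (chain_join (by decide +kernel) orb_node2Lev1 (chain_join (by decide +kernel) orb_node2Lev2 (chain_join (by decide +kernel) orb_node2Lev3 (chain_join (by decide +kernel) orb_node2Lev4 rfl)))))

theorem idx2 : chainSize node2.chain * node2.idx = 1345036492800 := by decide +kernel

end Cfsg.Agent.Spor.CoAmal.Cert
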