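import Cfsg.Agent.Lib.Spor.CoAmal.Cert.Eqs
import Cfsg.Agent.Lib.Spor.CoAmal.Cert.Tab
import Cfsg.Agent.Lib.Spor.CoAmal.Cert.Split
import Cfsg.Agent.Lib.Spor.CoAmal.Cert.Node4

/-!
Checks for a node.
-/

set_option autoImplicit false
set_option maxRecDepth 100000

namespace Cfsg.Agent.Spor.CoAmal.Cert

open Cfsg.Agent.Spor.CC

theorem forest4p0 : rangeOK (ndOK1 rows allF (nodeSet allF redir live) node4) 0 891 = true := by decide +kernel

theorem forest4p1 : rangeOK (ndOK1 rows allF (nodeSet allF redir live) node4) 891 891 = true := by decide +kernel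

theorem forest4p2 : rangeOK (ndOK1 rows allF (nodeSet allF redir live) node4) 1782 891 = true := by decide +kernel

theorem forest4p3 : rangeOK (ndOK1 rows allF (nodeSet allF redir live) node4) 2673 891 = true := by decide +kernel

theorem forest4p4 : rangeOK (ndOK1 rows allF (nodeSet allF redir live) node4) 3564 891 = true := by decide +kernel

theorem forest4p5 : rangeOK (ndOK1 rows allF (nodeSet allF redir live) node4) 4455 891 = true := by decide +kernel

theorem forest4 : rangeOK (ndOK1 rows allF (nodeSet allF redir live) node4) 0 5346 = true :=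
  (range_join (range_join (range_join (range_join (range_join forest4p0 forest4p1 (rfl : 891 + 891 = 1782)) forest4p2 (rfl : 1782 + 891 = 2673)) forest4p3 (rfl : 2673 + 891 = 3564)) forest4p4 (rfl : 3564 + 891 = 4455)) forest4p5 (rfl : 4455 + 891 = 5346))

theorem cover4 : coverOK node4 5346 = true := by decide +kernel

theorem fix4 : fixS allF node4 = true := by decide +kernel

theorem slp4 : slpOK rows bases node4.slp (node4.S.map fun k => wDecode (allF.getD k noFct).w2) = true := by
  decide +kernel

theorem cin4 : chainIn allF node4 = true := by decide +kernel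

theorem orb_node4Lev0p0 : rangeOK (orbOK1 rows 7 node4Lev0) 0 600 = true := by decide +kernel

theorem orb_node4Lev0p1 : rangeOK (orbOK1 rows 7 node4Lev0) 600 600 = true := by decide +kernel

theorem orb_node4Lev0p2 : rangeOK (orbOK1 rows 7 node4Lev0) 1200 600 = true := by decide +kernel

theorem orb_node4Lev0p3 : rangeOK (orbOK1 rows 7 node4Lev0) 1800 600 = true := by decide +kernel

theorem orb_node4Lev0p4 : rangeOK (orbOK1 rows 7 node4Lev0) 2400 600 = true := by decide +kernel

theorem orb_node4Lev0p5 : rangeOK (orbOK1 rows 7 node4Lev0) 3000 150 = true := by decide +kernel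

theorem orb_node4Lev0 : orbOK rows 7 node4Lev0 = true :=
  orb_join (O := node4Lev0) (range_join (range_join (range_join (range_join (range_join orb_node4Lev0p0 orb_node4Lev0p1 (rfl : 600 + 600 = 1200)) orb_node4Lev0p2 (rfl : 1200 + 600 = 1800)) orb_node4Lev0p3 (rfl : 1800 + 600 = 2400)) orb_node4Lev0p4 (rfl : 2400 + 600 = 3000)) orb_node4Lev0p5 (rfl : 3000 + 150 = 3150))

theorem orb_node4Lev1p0 : rangeOK (orbOK1 rows 7 node4Lev1) 0 64 = true := by decide +kernel

theorem orb_node4Lev1 : orbOK rows 7 node4Lev1 = true :=
  orb_join (O := node4Lev1) orb_node4Lev1p0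

theorem orb_node4Lev2p0 : rangeOK (orbOK1 rows 7 node4Lev2) 0 3 = true := by decide +kernel

theorem orb_node4Lev2 : orbOK rows 7 node4Lev2 = true :=
  orb_join (O := node4Lev2) orb_node4Lev2p0

theorem cok4 : chainOK rows 7 5346 node4.chain [] = true :=
  (chain_join (by decide +kernel) orb_node4Lev0 (chain_join (by decide +kernel) orb_node4Lev1 (chain_join (by decide +kernel) orb_node4Lev2 rfl)))

theorem idx4 : chainSize node4.chain * node4.idx = 1345036492800 := by decide +kernel

end Cfsg.Agent.Spor.CoAmal.Cert
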