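import Cfsg.Agent.Lib.Spor.CoAmal.Cert.Eqs
import Cfsg.Agent.Lib.Spor.CoAmal.Cert.Tab
import Cfsg.Agent.Lib.Spor.CoAmal.Cert.Split
import Cfsg.Agent.Lib.Spor.CoAmal.Cert.Node5

/-!
Checks for a node.
-/

set_option autoImplicit false
set_option maxRecDepth 100000

namespace Cfsg.Agent.Spor.CoAmal.Cert

open Cfsg.Agent.Spor.CC

theorem forest5p0 : rangeOK (ndOK1 rows allF (nodeSet allF redir live) node5) 0 891 = true := by decide +kernel

theorem forest5p1 : rangeOK (ndOK1 rows allF (nodeSet allF redir live) node5) 891 891 = true := by decide +kernel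

theorem forest5p2 : rangeOK (ndOK1 rows allF (nodeSet allF redir live) node5) 1782 891 = true := by decide +kernel

theorem forest5p3 : rangeOK (ndOK1 rows allF (nodeSet allF redir live) node5) 2673 891 = true := by decide +kernel

theorem forest5p4 : rangeOK (ndOK1 rows allF (nodeSet allF redir live) node5) 3564 891 = true := by decide +kernel

theorem forest5p5 : rangeOK (ndOK1 rows allF (nodeSet allF redir live) node5) 4455 891 = true := by decide +kernel

theorem forest5 : rangeOK (ndOK1 rows allF (nodeSet allF redir live) node5) 0 5346 = true :=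
  (range_join (range_join (range_join (range_join (range_join forest5p0 forest5p1 (rfl : 891 + 891 = 1782)) forest5p2 (rfl : 1782 + 891 = 2673)) forest5p3 (rfl : 2673 + 891 = 3564)) forest5p4 (rfl : 3564 + 891 = 4455)) forest5p5 (rfl : 4455 + 891 = 5346))

theorem cover5 : coverOK node5 5346 = true := by decide +kernel

theorem fix5 : fixS allF node5 = true := by decide +kernel

theorem slp5 : slpOK rows bases node5.slp (node5.S.map fun k => wDecode (allF.getD k noFct).w2) = true := by
  decide +kernel

theorem cin5 : chainIn allF node5 = true := by decide +kernel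

theorem orb_node5Lev0p0 : rangeOK (orbOK1 rows 7 node5Lev0) 0 600 = true := by decide +kernel

theorem orb_node5Lev0p1 : rangeOK (orbOK1 rows 7 node5Lev0) 600 600 = true := by decide +kernel

theorem orb_node5Lev0p2 : rangeOK (orbOK1 rows 7 node5Lev0) 1200 528 = true := by decide +kernel

theorem orb_node5Lev0 : orbOK rows 7 node5Lev0 = true :=
  orb_join (O := node5Lev0) (range_join (range_join orb_node5Lev0p0 orb_node5Lev0p1 (rfl : 600 + 600 = 1200)) orb_node5Lev0p2 (rfl : 1200 + 528 = 1728))

theorem orb_node5Lev1p0 : rangeOK (orbOK1 rows 7 node5Lev1) 0 32 = true := by decide +kernel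

theorem orb_node5Lev1 : orbOK rows 7 node5Lev1 = true :=
  orb_join (O := node5Lev1) orb_node5Lev1p0

theorem orb_node5Lev2p0 : rangeOK (orbOK1 rows 7 node5Lev2) 0 5 = true := by decide +kernel

theorem orb_node5Lev2 : orbOK rows 7 node5Lev2 = true :=
  orb_join (O := node5Lev2) orb_node5Lev2p0

theorem orb_node5Lev3p0 : rangeOK (orbOK1 rows 7 node5Lev3) 0 4 = true := by decide +kernel

theorem orb_node5Lev3 : orbOK rows 7 node5Lev3 = true :=
  orb_join (O := node5Lev3) orb_node5Lev3p0

theorem orb_node5Lev4p0 : rangeOK (orbOK1 rows 7 node5Lev4) 0 3 = true := by decide +kernel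

theorem orb_node5Lev4 : orbOK rows 7 node5Lev4 = true :=
  orb_join (O := node5Lev4) orb_node5Lev4p0

theorem cok5 : chainOK rows 7 5346 node5.chain [] = true :=
  (chain_join (by decide +kernel) orb_node5Lev0 (chain_join (by decide +kernel) orb_node5Lev1 (chain_join (by decide +kernel) orb_node5Lev2 (chain_join (by decide +kernel) orb_node5Lev3 (chain_join (by decide +kernel) orb_node5Lev4 rfl)))))

theorem idx5 : chainSize node5.chain * node5.idx = 1345036492800 := by decide +kernel

end Cfsg.Agent.Spor.CoAmal.Cert
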