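import Cfsg.Agent.Lib.Spor.CoAmal.Cert.Eqs
import Cfsg.Agent.Lib.Spor.CoAmal.Cert.Tab
import Cfsg.Agent.Lib.Spor.CoAmal.Cert.Split
import Cfsg.Agent.Lib.Spor.CoAmal.Cert.Node7

/-!
Checks for a node.
-/

set_option autoImplicit false
set_option maxRecDepth 100000

namespace Cfsg.Agent.Spor.CoAmal.Cert

open Cfsg.Agent.Spor.CC

theorem forest7p0 : rangeOK (ndOK1 rows allF (nodeSet allF redir live) node7) 0 891 = true := by decide +kernel

theorem forest7p1 : rangeOK (ndOK1 rows allF (nodeSet allF redir live) node7) 891 891 = true := by decide +kernel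

theorem forest7p2 : rangeOK (ndOK1 rows allF (nodeSet allF redir live) node7) 1782 891 = true := by decide +kernel

theorem forest7p3 : rangeOK (ndOK1 rows allF (nodeSet allF redir live) node7) 2673 891 = true := by decide +kernel

theorem forest7p4 : rangeOK (ndOK1 rows allF (nodeSet allF redir live) node7) 3564 891 = true := by decide +kernel

theorem forest7p5 : rangeOK (ndOK1 rows allF (nodeSet allF redir live) node7) 4455 891 = true := by decide +kernel

theorem forest7 : rangeOK (ndOK1 rows allF (nodeSet allF redir live) node7) 0 5346 = true :=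
  (range_join (range_join (range_join (range_join (range_join forest7p0 forest7p1 (rfl : 891 + 891 = 1782)) forest7p2 (rfl : 1782 + 891 = 2673)) forest7p3 (rfl : 2673 + 891 = 3564)) forest7p4 (rfl : 3564 + 891 = 4455)) forest7p5 (rfl : 4455 + 891 = 5346))

theorem cover7 : coverOK node7 5346 = true := by decide +kernel

theorem fix7 : fixS allF node7 = true := by decide +kernel

theorem slp7 : slpOK rows bases node7.slp (node7.S.map fun k => wDecode (allF.getD k noFct).w2) = true := by
  decide +kernel

theorem cin7 : chainIn allF node7 = true := by decide +kernel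

theorem orb_node7Lev0p0 : rangeOK (orbOK1 rows 7 node7Lev0) 0 600 = true := by decide +kernel

theorem orb_node7Lev0p1 : rangeOK (orbOK1 rows 7 node7Lev0) 600 600 = true := by decide +kernel

theorem orb_node7Lev0p2 : rangeOK (orbOK1 rows 7 node7Lev0) 1200 600 = true := by decide +kernel

theorem orb_node7Lev0p3 : rangeOK (orbOK1 rows 7 node7Lev0) 1800 600 = true := by decide +kernel

theorem orb_node7Lev0p4 : rangeOK (orbOK1 rows 7 node7Lev0) 2400 600 = true := by decide +kernel

theorem orb_node7Lev0p5 : rangeOK (orbOK1 rows 7 node7Lev0) 3000 600 = true := by decide +kernel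

theorem orb_node7Lev0p6 : rangeOK (orbOK1 rows 7 node7Lev0) 3600 600 = true := by decide +kernel

theorem orb_node7Lev0p7 : rangeOK (orbOK1 rows 7 node7Lev0) 4200 600 = true := by decide +kernel

theorem orb_node7Lev0p8 : rangeOK (orbOK1 rows 7 node7Lev0) 4800 60 = true := by decide +kernel

theorem orb_node7Lev0 : orbOK rows 7 node7Lev0 = true :=
  orb_join (O := node7Lev0) (range_join (range_join (range_join (range_join (range_join (range_join (range_join (range_join orb_node7Lev0p0 orb_node7Lev0p1 (rfl : 600 + 600 = 1200)) orb_node7Lev0p2 (rfl : 1200 + 600 = 1800)) orb_node7Lev0p3 (rfl : 1800 + 600 = 2400)) orb_node7Lev0p4 (rfl : 2400 + 600 = 3000)) orb_node7Lev0p5 (rfl : 3000 + 600 = 3600)) orb_node7Lev0p6 (rfl : 3600 + 600 = 4200)) orb_node7Lev0p7 (rfl : 4200 + 600 = 4800)) orb_node7Lev0p8 (rfl : 4800 + 60 = 4860))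

theorem orb_node7Lev1p0 : rangeOK (orbOK1 rows 7 node7Lev1) 0 63 = true := by decide +kernel

theorem orb_node7Lev1 : orbOK rows 7 node7Lev1 = true :=
  orb_join (O := node7Lev1) orb_node7Lev1p0

theorem orb_node7Lev2p0 : rangeOK (orbOK1 rows 7 node7Lev2) 0 96 = true := by decide +kernel

theorem orb_node7Lev2 : orbOK rows 7 node7Lev2 = true :=
  orb_join (O := node7Lev2) orb_node7Lev2p0

theorem cok7 : chainOK rows 7 5346 node7.chain [] = true :=
  (chain_join (by decide +kernel) orb_node7Lev0 (chain_join (by decide +kernel) orb_node7Lev1 (chain_join (by decide +kernel) orb_node7Lev2 rfl)))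

theorem idx7 : chainSize node7.chain * node7.idx = 1345036492800 := by decide +kernel

end Cfsg.Agent.Spor.CoAmal.Cert
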