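import Cfsg.Agent.Lib.Spor.CoAmal.Cert.Eqs
import Cfsg.Agent.Lib.Spor.CoAmal.Cert.Tab
import Cfsg.Agent.Lib.Spor.CoAmal.Cert.Split

/-!
Checks of the derivations.
-/

set_option autoImplicit false
set_option maxRecDepth 100000

namespace Cfsg.Agent.Spor.CoAmal.Cert

open Cfsg.Agent.Spor.CC

theorem derOK1p0 : rangeOK (fun i => derOK rows bases allF (Nat.add (7 + defs.length) i) (ders.getD i noDer)) 52 13 = true := by decide +kernel

theorem derOK1p1 : rangeOK (fun i => derOK rows bases allF (Nat.add (7 + defs.length) i) (ders.getD i noDer)) 65 13 = true := by decide +kernel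

theorem derOK1p2 : rangeOK (fun i => derOK rows bases allF (Nat.add (7 + defs.length) i) (ders.getD i noDer)) 78 13 = true := by decide +kernel

theorem derOK1p3 : rangeOK (fun i => derOK rows bases allF (Nat.add (7 + defs.length) i) (ders.getD i noDer)) 91 13 = true := by decide +kernel

theorem derOK1 : derRange rows bases allF (7 + defs.length) ders 52 52 = true :=
  (range_join (range_join (range_join derOK1p0 derOK1p1 (rfl : 13 + 13 = 26)) derOK1p2 (rfl : 26 + 13 = 39)) derOK1p3 (rfl : 39 + 13 = 52))

end Cfsg.Agent.Spor.CoAmal.Cert
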