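import Cfsg.Agent.Lib.Spor.CoAmal.Cert.Facts
import Cfsg.Agent.Lib.Spor.CoAmal.Closure

/-!
All equations.
-/

set_option autoImplicit false
set_option maxRecDepth 100000

namespace Cfsg.Agent.Spor.CoAmal.Cert

open Cfsg.Agent.Spor.CC

/-- the equations -/
def allF : List Fct := axFcts ++ dfFcts defs ++ ders.map Der.f

/-- the base points -/
def bases : List ℕ := [0, 2, 4, 9, 19]

end Cfsg.Agent.Spor.CoAmal.Cert
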