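import Cfsg.Agent.Lib.Spor.CoAmal.Cert.Rel
import Cfsg.Agent.Lib.Spor.CoAmal.Cert.Split

/-!
Table checks on a range of points.
-/

set_option autoImplicit false
set_option maxRecDepth 100000

namespace Cfsg.Agent.Spor.CoAmal.Cert

open Cfsg.Agent.Spor.CC

theorem inv0 : invOK rows 7 5346 0 1337 = true := by decide +kernel

theorem relAll0p0 : rangeOK (relAll) 0 335 = true := by decide +kernel

theorem relAll0p1 : rangeOK (relAll) 335 335 = true := by decide +kernel

theorem relAll0p2 : rangeOK (relAll) 670 335 = true := by decide +kernel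

theorem relAll0p3 : rangeOK (relAll) 1005 332 = true := by decide +kernel

theorem loop0 : loopOK rows 7 relK 0 1337 = true :=
  relL_eq ▸ loop_of (fun u => rel_eq u) (range_join (range_join (range_join relAll0p0 relAll0p1 (rfl : 335 + 335 = 670)) relAll0p2 (rfl : 670 + 335 = 1005)) relAll0p3 (rfl : 1005 + 332 = 1337))

end Cfsg.Agent.Spor.CoAmal.Cert
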