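import Cfsg.Agent.Lib.Spor.CoAmal.Cert.Base
import Cfsg.Agent.Lib.Spor.CoAmal.Cert.Derivs0
import Cfsg.Agent.Lib.Spor.CoAmal.Cert.Derivs1
import Cfsg.Agent.Lib.Spor.CoAmal.Cert.Derivs2
import Cfsg.Agent.Lib.Spor.CoAmal.Cert.Checks0
import Cfsg.Agent.Lib.Spor.CoAmal.Cert.Checks1
import Cfsg.Agent.Lib.Spor.CoAmal.Cert.Checks2
import Cfsg.Agent.Lib.Spor.CoAmal.Cert.Checks3
import Cfsg.Agent.Lib.Spor.CoAmal.Cert.Checks4
import Cfsg.Agent.Lib.Spor.CoAmal.Cert.Checks5
import Cfsg.Agent.Lib.Spor.CoAmal.Cert.Checks6
import Cfsg.Agent.Lib.Spor.CoAmal.Cert.Checks7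

/-!
Eight involutions with the relations generate a group no larger than the first Conway group.
-/

set_option autoImplicit false
set_option maxRecDepth 100000

namespace Cfsg.Agent.Spor.CoAmal

open Cfsg.Agent.Spor.CC Cert

namespace Cert

theorem ders_all : ∀ i, i < ders.length → derOK rows bases allF (7 + defs.length + i) (ders.getD i noDer) = true := by
  intro i hi
  have hn : ders.length = 156 := rfl
  rw [hn] at hi
  by_cases h0 : i < 52
  · exact all_range (p := fun i => derOK rows bases allF (Nat.add (7 + defs.length) i) (ders.getD i noDer)) derOK0 (by omega) h0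
  by_cases h1 : i < 104
  · exact all_range (p := fun i => derOK rows bases allF (Nat.add (7 + defs.length) i) (ders.getD i noDer)) derOK1 (by omega) h1
  exact all_range (p := fun i => derOK rows bases allF (Nat.add (7 + defs.length) i) (ders.getD i noDer)) derOK2 (by omega) hi

/-- all nodes -/
def nodeList : List Nd := [node0, node1, node2, node3, node4, node5, node6, node7]

theorem forest_all : ∀ N ∈ nodeList, rangeOK (ndOK1 rows allF (nodeSet allF redir live) N) 0 5346 = true := by
  simp [nodeList, forest0, forest1, forest2, forest3, forest4, forest5, forest6, forest7]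

/-- the certificate -/
def closing : Closing cert where
  defs := defs
  ders := ders
  nodes := nodeList
  defs_ok := by decide +kernel
  F := allF
  F_eq := rfl
  ders_ok := ders_all
  redir := redir
  redir_ok := by decide +kernel
  base_mem := by decide +kernel
  forest_ok := fun N hN i hi =>
    all_range (p := ndOK1 rows allF (nodeSet allF redir live) N) (forest_all N hN) (Nat.zero_le i)
      (show i < 0 + 5346 from (Nat.zero_add 5346).symm ▸ hi)
  cover_ok := by
    intro N hN
    fin_cases hN
    exacts [cover0, cover1, cover2, cover3, cover4, cover5, cover6, cover7]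
  fixS_ok := by
    intro N hN
    fin_cases hN
    exacts [fix0, fix1, fix2, fix3, fix4, fix5, fix6, fix7]
  slp_ok := by
    intro N hN
    fin_cases hN
    exacts [slp0, slp1, slp2, slp3, slp4, slp5, slp6, slp7]
  chain_in := by
    intro N hN
    fin_cases hN
    exacts [cin0, cin1, cin2, cin3, cin4, cin5, cin6, cin7]
  chain_ok := by
    intro N hN
    fin_cases hN
    exacts [cok0, cok1, cok2, cok3, cok4, cok5, cok6, cok7]
  idx_ok := by
    intro N hN
    fin_cases hN
    exacts [idx0, idx1, idx2, idx3, idx4, idx5, idx6, idx7]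
  idx_sum := by decide +kernel

end Cert

universe u

/-- the bound -/
theorem finite_bound {M : Type u} [Group M] {m : ℕ → M} (R : Rels8 m) :
    Finite (Subgroup.closure (m '' {x | x < 8})) ∧
      Nat.card (Subgroup.closure (m '' {x | x < 8})) ≤ 4157776806543360000 :=
  card_closure R Cert.closing

end Cfsg.Agent.Spor.CoAmal
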