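import Cfsg.Agent.Lib.Spor.CoAmal.Closure
import Cfsg.Agent.Lib.Spor.CoAmal.Cert.Tab

/-!
The relators act trivially, unfolded.
-/

set_option autoImplicit false
set_option maxRecDepth 100000

namespace Cfsg.Agent.Spor.CoAmal.Cert

open Cfsg.Agent.Spor.CC

theorem img_0 (m u : ℕ) : img rows m 0 u = col0 u := rfl

theorem img_1 (m u : ℕ) : img rows m 1 u = col1 u := rfl

theorem img_2 (m u : ℕ) : img rows m 2 u = col2 u := rfl

theorem img_3 (m u : ℕ) : img rows m 3 u = col3 u := rfl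

theorem img_4 (m u : ℕ) : img rows m 4 u = col4 u := rfl

theorem img_5 (m u : ℕ) : img rows m 5 u = col5 u := rfl

theorem img_6 (m u : ℕ) : img rows m 6 u = col6 u := rfl

/-- a relator applied to a point -/
def rel0 (u : ℕ) : ℕ := (col0 (col1 (col0 (col1 (col0 (col1 (col0 (col1 (col0 (col1 u))))))))))

theorem rel0_eq (u : ℕ) : ev rows 7 [0, 1, 0, 1, 0, 1, 0, 1, 0, 1] u = rel0 u := by
  simp only [ev, List.foldr_cons, List.foldr_nil, img_0, img_1, img_2, img_3, img_4, img_5, img_6]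
  rfl

/-- a relator applied to a point -/
def rel1 (u : ℕ) : ℕ := (col1 (col2 (col1 (col2 (col1 (col2 u))))))

theorem rel1_eq (u : ℕ) : ev rows 7 [1, 2, 1, 2, 1, 2] u = rel1 u := by
  simp only [ev, List.foldr_cons, List.foldr_nil, img_0, img_1, img_2, img_3, img_4, img_5, img_6]
  rfl

/-- a relator applied to a point -/
def rel2 (u : ℕ) : ℕ := (col2 (col3 (col2 (col3 (col2 (col3 (col2 (col3 (col2 (col3 (col2 (col3 (col2 (col3 (col2 (col3 u))))))))))))))))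

theorem rel2_eq (u : ℕ) : ev rows 7 [2, 3, 2, 3, 2, 3, 2, 3, 2, 3, 2, 3, 2, 3, 2, 3] u = rel2 u := by
  simp only [ev, List.foldr_cons, List.foldr_nil, img_0, img_1, img_2, img_3, img_4, img_5, img_6]
  rfl

/-- a relator applied to a point -/
def rel3 (u : ℕ) : ℕ := (col3 (col4 (col3 (col4 (col3 (col4 u))))))

theorem rel3_eq (u : ℕ) : ev rows 7 [3, 4, 3, 4, 3, 4] u = rel3 u := by
  simp only [ev, List.foldr_cons, List.foldr_nil, img_0, img_1, img_2, img_3, img_4, img_5, img_6]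
  rfl

/-- a relator applied to a point -/
def rel4 (u : ℕ) : ℕ := (col1 (col5 (col1 (col5 (col1 (col5 u))))))

theorem rel4_eq (u : ℕ) : ev rows 7 [1, 5, 1, 5, 1, 5] u = rel4 u := by
  simp only [ev, List.foldr_cons, List.foldr_nil, img_0, img_1, img_2, img_3, img_4, img_5, img_6]
  rfl

/-- a relator applied to a point -/
def rel5 (u : ℕ) : ℕ := (col5 (col6 (col5 (col6 (col5 (col6 (col5 (col6 u))))))))

theorem rel5_eq (u : ℕ) : ev rows 7 [5, 6, 5, 6, 5, 6, 5, 6] u = rel5 u := by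
  simp only [ev, List.foldr_cons, List.foldr_nil, img_0, img_1, img_2, img_3, img_4, img_5, img_6]
  rfl

/-- a relator applied to a point -/
def rel6 (u : ℕ) : ℕ := (col6 (col1 (col6 (col1 (col6 (col1 u))))))

theorem rel6_eq (u : ℕ) : ev rows 7 [6, 1, 6, 1, 6, 1] u = rel6 u := by
  simp only [ev, List.foldr_cons, List.foldr_nil, img_0, img_1, img_2, img_3, img_4, img_5, img_6]
  rfl

/-- a relator applied to a point -/
def rel7 (u : ℕ) : ℕ := (col0 (col2 (col0 (col2 u))))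

theorem rel7_eq (u : ℕ) : ev rows 7 [0, 2, 0, 2] u = rel7 u := by
  simp only [ev, List.foldr_cons, List.foldr_nil, img_0, img_1, img_2, img_3, img_4, img_5, img_6]
  rfl

/-- a relator applied to a point -/
def rel8 (u : ℕ) : ℕ := (col0 (col3 (col0 (col3 u))))

theorem rel8_eq (u : ℕ) : ev rows 7 [0, 3, 0, 3] u = rel8 u := by
  simp only [ev, List.foldr_cons, List.foldr_nil, img_0, img_1, img_2, img_3, img_4, img_5, img_6]
  rfl

/-- a relator applied to a point -/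
def rel9 (u : ℕ) : ℕ := (col0 (col4 (col0 (col4 u))))

theorem rel9_eq (u : ℕ) : ev rows 7 [0, 4, 0, 4] u = rel9 u := by
  simp only [ev, List.foldr_cons, List.foldr_nil, img_0, img_1, img_2, img_3, img_4, img_5, img_6]
  rfl

/-- a relator applied to a point -/
def rel10 (u : ℕ) : ℕ := (col0 (col5 (col0 (col5 u))))

theorem rel10_eq (u : ℕ) : ev rows 7 [0, 5, 0, 5] u = rel10 u := by
  simp only [ev, List.foldr_cons, List.foldr_nil, img_0, img_1, img_2, img_3, img_4, img_5, img_6]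
  rfl

/-- a relator applied to a point -/
def rel11 (u : ℕ) : ℕ := (col0 (col6 (col0 (col6 u))))

theorem rel11_eq (u : ℕ) : ev rows 7 [0, 6, 0, 6] u = rel11 u := by
  simp only [ev, List.foldr_cons, List.foldr_nil, img_0, img_1, img_2, img_3, img_4, img_5, img_6]
  rfl

/-- a relator applied to a point -/
def rel12 (u : ℕ) : ℕ := (col1 (col3 (col1 (col3 u))))

theorem rel12_eq (u : ℕ) : ev rows 7 [1, 3, 1, 3] u = rel12 u := by
  simp only [ev, List.foldr_cons, List.foldr_nil, img_0, img_1, img_2, img_3, img_4, img_5, img_6]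
  rfl

/-- a relator applied to a point -/
def rel13 (u : ℕ) : ℕ := (col1 (col4 (col1 (col4 u))))

theorem rel13_eq (u : ℕ) : ev rows 7 [1, 4, 1, 4] u = rel13 u := by
  simp only [ev, List.foldr_cons, List.foldr_nil, img_0, img_1, img_2, img_3, img_4, img_5, img_6]
  rfl

/-- a relator applied to a point -/
def rel14 (u : ℕ) : ℕ := (col2 (col4 (col2 (col4 u))))

theorem rel14_eq (u : ℕ) : ev rows 7 [2, 4, 2, 4] u = rel14 u := by
  simp only [ev, List.foldr_cons, List.foldr_nil, img_0, img_1, img_2, img_3, img_4, img_5, img_6]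
  rfl

/-- a relator applied to a point -/
def rel15 (u : ℕ) : ℕ := (col2 (col5 (col2 (col5 u))))

theorem rel15_eq (u : ℕ) : ev rows 7 [2, 5, 2, 5] u = rel15 u := by
  simp only [ev, List.foldr_cons, List.foldr_nil, img_0, img_1, img_2, img_3, img_4, img_5, img_6]
  rfl

/-- a relator applied to a point -/
def rel16 (u : ℕ) : ℕ := (col2 (col6 (col2 (col6 u))))

theorem rel16_eq (u : ℕ) : ev rows 7 [2, 6, 2, 6] u = rel16 u := by
  simp only [ev, List.foldr_cons, List.foldr_nil, img_0, img_1, img_2, img_3, img_4, img_5, img_6]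
  rfl

/-- a relator applied to a point -/
def rel17 (u : ℕ) : ℕ := (col3 (col5 (col3 (col5 u))))

theorem rel17_eq (u : ℕ) : ev rows 7 [3, 5, 3, 5] u = rel17 u := by
  simp only [ev, List.foldr_cons, List.foldr_nil, img_0, img_1, img_2, img_3, img_4, img_5, img_6]
  rfl

/-- a relator applied to a point -/
def rel18 (u : ℕ) : ℕ := (col3 (col6 (col3 (col6 u))))

theorem rel18_eq (u : ℕ) : ev rows 7 [3, 6, 3, 6] u = rel18 u := by
  simp only [ev, List.foldr_cons, List.foldr_nil, img_0, img_1, img_2, img_3, img_4, img_5, img_6]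
  rfl

/-- a relator applied to a point -/
def rel19 (u : ℕ) : ℕ := (col4 (col5 (col4 (col5 u))))

theorem rel19_eq (u : ℕ) : ev rows 7 [4, 5, 4, 5] u = rel19 u := by
  simp only [ev, List.foldr_cons, List.foldr_nil, img_0, img_1, img_2, img_3, img_4, img_5, img_6]
  rfl

/-- a relator applied to a point -/
def rel20 (u : ℕ) : ℕ := (col4 (col6 (col4 (col6 u))))

theorem rel20_eq (u : ℕ) : ev rows 7 [4, 6, 4, 6] u = rel20 u := by
  simp only [ev, List.foldr_cons, List.foldr_nil, img_0, img_1, img_2, img_3, img_4, img_5, img_6]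
  rfl

/-- a relator applied to a point -/
def rel21 (u : ℕ) : ℕ := (col0 (col2 (col3 (col2 (col3 (col2 (col3 (col2 (col3 u)))))))))

theorem rel21_eq (u : ℕ) : ev rows 7 [0, 2, 3, 2, 3, 2, 3, 2, 3] u = rel21 u := by
  simp only [ev, List.foldr_cons, List.foldr_nil, img_0, img_1, img_2, img_3, img_4, img_5, img_6]
  rfl

/-- a relator applied to a point -/
def rel22 (u : ℕ) : ℕ := (col0 (col5 (col6 (col5 (col6 u)))))

theorem rel22_eq (u : ℕ) : ev rows 7 [0, 5, 6, 5, 6] u = rel22 u := by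
  simp only [ev, List.foldr_cons, List.foldr_nil, img_0, img_1, img_2, img_3, img_4, img_5, img_6]
  rfl

/-- a relator applied to a point -/
def rel23 (u : ℕ) : ℕ := (col0 (col1 (col2 (col5 (col0 (col1 (col2 (col5 (col0 (col1 (col2 (col5 (col0 (col1 (col2 (col5 (col0 (col1 (col2 (col5 u))))))))))))))))))))

theorem rel23_eq (u : ℕ) : ev rows 7 [0, 1, 2, 5, 0, 1, 2, 5, 0, 1, 2, 5, 0, 1, 2, 5, 0, 1, 2, 5] u = rel23 u := by
  simp only [ev, List.foldr_cons, List.foldr_nil, img_0, img_1, img_2, img_3, img_4, img_5, img_6]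
  rfl

/-- a relator applied to a point -/
def rel24 (u : ℕ) : ℕ := (col1 (col2 (col3 (col2 (col3 (col1 (col2 (col3 (col2 (col3 (col1 (col2 (col3 (col2 (col3 (col1 (col2 (col3 (col2 (col3 (col1 (col2 (col3 (col2 (col3 (col4 (col1 (col2 (col3 (col2 (col3 (col1 (col2 (col3 (col2 (col3 (col1 (col2 (col3 (col2 (col3 (col1 (col2 (col3 (col2 (col3 (col1 (col2 (col3 (col2 (col3 (col4 (col1 (col2 (col3 (col2 (col3 (col1 (col2 (col3 (col2 (col3 (col1 (col2 (col3 (col2 (col3 (col1 (col2 (col3 (col2 (col3 (col1 (col2 (col3 (col2 (col3 (col4 u))))))))))))))))))))))))))))))))))))))))))))))))))))))))))))))))))))))))))))))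

theorem rel24_eq (u : ℕ) : ev rows 7 [1, 2, 3, 2, 3, 1, 2, 3, 2, 3, 1, 2, 3, 2, 3, 1, 2, 3, 2, 3, 1, 2, 3, 2, 3, 4, 1, 2, 3, 2, 3, 1, 2, 3, 2, 3, 1, 2, 3, 2, 3, 1, 2, 3, 2, 3, 1, 2, 3, 2, 3, 4, 1, 2, 3, 2, 3, 1, 2, 3, 2, 3, 1, 2, 3, 2, 3, 1, 2, 3, 2, 3, 1, 2, 3, 2, 3, 4] u = rel24 u := by
  simp only [ev, List.foldr_cons, List.foldr_nil, img_0, img_1, img_2, img_3, img_4, img_5, img_6]
  rfl

/-- a relator applied to a point -/
def rel25 (u : ℕ) : ℕ := (col1 (col5 (col6 (col1 (col5 (col6 (col1 (col5 (col6 (col1 (col5 (col6 (col1 (col5 (col6 (col1 (col5 (col6 (col1 (col5 (col6 (col1 (col5 (col6 (col1 (col5 (col6 (col1 (col5 (col6 (col1 (col5 (col6 (col1 (col5 (col6 (col1 (col5 (col6 (col1 (col5 (col6 (col1 (col5 (col6 u)))))))))))))))))))))))))))))))))))))))))))))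

theorem rel25_eq (u : ℕ) : ev rows 7 [1, 5, 6, 1, 5, 6, 1, 5, 6, 1, 5, 6, 1, 5, 6, 1, 5, 6, 1, 5, 6, 1, 5, 6, 1, 5, 6, 1, 5, 6, 1, 5, 6, 1, 5, 6, 1, 5, 6, 1, 5, 6, 1, 5, 6] u = rel25 u := by
  simp only [ev, List.foldr_cons, List.foldr_nil, img_0, img_1, img_2, img_3, img_4, img_5, img_6]
  rfl

/-- a relator applied to a point -/
def rel26 (u : ℕ) : ℕ := (col0 (col0 u))

theorem rel26_eq (u : ℕ) : ev rows 7 [0, 0] u = rel26 u := by
  simp only [ev, List.foldr_cons, List.foldr_nil, img_0, img_1, img_2, img_3, img_4, img_5, img_6]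
  rfl

/-- a relator applied to a point -/
def rel27 (u : ℕ) : ℕ := (col1 (col5 (col6 (col1 (col5 (col6 (col1 (col5 (col6 (col1 (col5 (col6 (col1 (col5 (col6 (col0 (col6 (col5 (col1 (col6 (col5 (col1 (col6 (col5 (col1 (col6 (col5 (col1 (col6 (col5 (col1 (col0 u))))))))))))))))))))))))))))))))

theorem rel27_eq (u : ℕ) : ev rows 7 [1, 5, 6, 1, 5, 6, 1, 5, 6, 1, 5, 6, 1, 5, 6, 0, 6, 5, 1, 6, 5, 1, 6, 5, 1, 6, 5, 1, 6, 5, 1, 0] u = rel27 u := by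
  simp only [ev, List.foldr_cons, List.foldr_nil, img_0, img_1, img_2, img_3, img_4, img_5, img_6]
  rfl

/-- a relator applied to a point -/
def rel28 (u : ℕ) : ℕ := (col1 (col5 (col6 (col1 (col5 (col6 (col1 (col5 (col6 (col1 (col5 (col6 (col1 (col5 (col6 (col1 (col6 (col5 (col1 (col6 (col5 (col1 (col6 (col5 (col1 (col6 (col5 (col1 (col6 (col5 (col1 (col1 u))))))))))))))))))))))))))))))))

theorem rel28_eq (u : ℕ) : ev rows 7 [1, 5, 6, 1, 5, 6, 1, 5, 6, 1, 5, 6, 1, 5, 6, 1, 6, 5, 1, 6, 5, 1, 6, 5, 1, 6, 5, 1, 6, 5, 1, 1] u = rel28 u := by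
  simp only [ev, List.foldr_cons, List.foldr_nil, img_0, img_1, img_2, img_3, img_4, img_5, img_6]
  rfl

/-- a relator applied to a point -/
def rel29 (u : ℕ) : ℕ := (col1 (col5 (col6 (col1 (col5 (col6 (col1 (col5 (col6 (col1 (col5 (col6 (col1 (col5 (col6 (col2 (col6 (col5 (col1 (col6 (col5 (col1 (col6 (col5 (col1 (col6 (col5 (col1 (col6 (col5 (col1 (col2 u))))))))))))))))))))))))))))))))

theorem rel29_eq (u : ℕ) : ev rows 7 [1, 5, 6, 1, 5, 6, 1, 5, 6, 1, 5, 6, 1, 5, 6, 2, 6, 5, 1, 6, 5, 1, 6, 5, 1, 6, 5, 1, 6, 5, 1, 2] u = rel29 u := by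
  simp only [ev, List.foldr_cons, List.foldr_nil, img_0, img_1, img_2, img_3, img_4, img_5, img_6]
  rfl

/-- a relator applied to a point -/
def rel30 (u : ℕ) : ℕ := (col1 (col5 (col6 (col1 (col5 (col6 (col1 (col5 (col6 (col1 (col5 (col6 (col1 (col5 (col6 (col3 (col6 (col5 (col1 (col6 (col5 (col1 (col6 (col5 (col1 (col6 (col5 (col1 (col6 (col5 (col1 (col3 u))))))))))))))))))))))))))))))))

theorem rel30_eq (u : ℕ) : ev rows 7 [1, 5, 6, 1, 5, 6, 1, 5, 6, 1, 5, 6, 1, 5, 6, 3, 6, 5, 1, 6, 5, 1, 6, 5, 1, 6, 5, 1, 6, 5, 1, 3] u = rel30 u := by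
  simp only [ev, List.foldr_cons, List.foldr_nil, img_0, img_1, img_2, img_3, img_4, img_5, img_6]
  rfl

/-- a relator applied to a point -/
def rel31 (u : ℕ) : ℕ := (col1 (col5 (col6 (col1 (col5 (col6 (col1 (col5 (col6 (col1 (col5 (col6 (col1 (col5 (col6 (col4 (col6 (col5 (col1 (col6 (col5 (col1 (col6 (col5 (col1 (col6 (col5 (col1 (col6 (col5 (col1 (col4 u))))))))))))))))))))))))))))))))

theorem rel31_eq (u : ℕ) : ev rows 7 [1, 5, 6, 1, 5, 6, 1, 5, 6, 1, 5, 6, 1, 5, 6, 4, 6, 5, 1, 6, 5, 1, 6, 5, 1, 6, 5, 1, 6, 5, 1, 4] u = rel31 u := by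
  simp only [ev, List.foldr_cons, List.foldr_nil, img_0, img_1, img_2, img_3, img_4, img_5, img_6]
  rfl

/-- a relator applied to a point -/
def rel32 (u : ℕ) : ℕ := (col1 (col5 (col6 (col1 (col5 (col6 (col1 (col5 (col6 (col1 (col5 (col6 (col1 (col5 (col6 (col5 (col6 (col5 (col1 (col6 (col5 (col1 (col6 (col5 (col1 (col6 (col5 (col1 (col6 (col5 (col1 (col5 u))))))))))))))))))))))))))))))))

theorem rel32_eq (u : ℕ) : ev rows 7 [1, 5, 6, 1, 5, 6, 1, 5, 6, 1, 5, 6, 1, 5, 6, 5, 6, 5, 1, 6, 5, 1, 6, 5, 1, 6, 5, 1, 6, 5, 1, 5] u = rel32 u := by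
  simp only [ev, List.foldr_cons, List.foldr_nil, img_0, img_1, img_2, img_3, img_4, img_5, img_6]
  rfl

/-- a relator applied to a point -/
def rel33 (u : ℕ) : ℕ := (col1 (col5 (col6 (col1 (col5 (col6 (col1 (col5 (col6 (col1 (col5 (col6 (col1 (col5 (col6 (col6 (col6 (col5 (col1 (col6 (col5 (col1 (col6 (col5 (col1 (col6 (col5 (col1 (col6 (col5 (col1 (col6 u))))))))))))))))))))))))))))))))

theorem rel33_eq (u : ℕ) : ev rows 7 [1, 5, 6, 1, 5, 6, 1, 5, 6, 1, 5, 6, 1, 5, 6, 6, 6, 5, 1, 6, 5, 1, 6, 5, 1, 6, 5, 1, 6, 5, 1, 6] u = rel33 u := by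
  simp only [ev, List.foldr_cons, List.foldr_nil, img_0, img_1, img_2, img_3, img_4, img_5, img_6]
  rfl

/-- the relators, listed -/
def relL : List (List ℕ) := [[0, 1, 0, 1, 0, 1, 0, 1, 0, 1], [1, 2, 1, 2, 1, 2], [2, 3, 2, 3, 2, 3, 2, 3, 2, 3, 2, 3, 2, 3, 2, 3], [3, 4, 3, 4, 3, 4], [1, 5, 1, 5, 1, 5], [5, 6, 5, 6, 5, 6, 5, 6], [6, 1, 6, 1, 6, 1], [0, 2, 0, 2], [0, 3, 0, 3], [0, 4, 0, 4], [0, 5, 0, 5], [0, 6, 0, 6], [1, 3, 1, 3], [1, 4, 1, 4], [2, 4, 2, 4], [2, 5, 2, 5], [2, 6, 2, 6], [3, 5, 3, 5], [3, 6, 3, 6], [4, 5, 4, 5], [4, 6, 4, 6], [0, 2, 3, 2, 3, 2, 3, 2, 3], [0, 5, 6, 5, 6], [0, 1, 2, 5, 0, 1, 2, 5, 0, 1, 2, 5, 0, 1, 2, 5, 0, 1, 2, 5], [1, 2, 3, 2, 3, 1, 2, 3, 2, 3, 1, 2, 3, 2, 3, 1, 2, 3, 2, 3, 1, 2, 3, 2, 3, 4, 1, 2, 3, 2, 3, 1, 2, 3, 2, 3, 1, 2, 3, 2, 3, 1, 2, 3, 2, 3, 1, 2, 3, 2, 3, 4, 1, 2, 3, 2, 3, 1, 2, 3, 2, 3, 1, 2, 3, 2, 3, 1, 2, 3, 2, 3, 1, 2, 3, 2, 3, 4],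 [1, 5, 6, 1, 5, 6, 1, 5, 6, 1, 5, 6, 1, 5, 6, 1, 5, 6, 1, 5, 6, 1, 5, 6, 1, 5, 6, 1, 5, 6, 1, 5, 6, 1, 5, 6, 1, 5, 6, 1, 5, 6, 1, 5, 6], [1, 5, 6, 1, 5, 6, 1, 5, 6, 1, 5, 6, 1, 5, 6, 0, 6, 5, 1, 6, 5, 1, 6, 5, 1, 6, 5, 1, 6, 5, 1, 0], [1, 5, 6, 1, 5, 6, 1, 5, 6, 1, 5, 6, 1, 5, 6, 1, 6, 5, 1, 6, 5, 1, 6, 5, 1, 6, 5, 1, 6, 5, 1, 1], [1, 5, 6, 1, 5, 6, 1, 5, 6, 1, 5, 6, 1, 5, 6, 2, 6, 5, 1, 6, 5, 1, 6, 5, 1, 6, 5, 1, 6, 5, 1, 2], [1, 5, 6, 1, 5, 6, 1, 5, 6, 1, 5, 6, 1, 5, 6, 3, 6, 5, 1, 6, 5, 1, 6, 5, 1, 6, 5, 1, 6, 5, 1, 3], [1, 5, 6, 1, 5, 6, 1, 5, 6, 1, 5, 6, 1, 5, 6, 4, 6, 5, 1, 6, 5, 1, 6, 5, 1, 6, 5, 1, 6, 5, 1, 4], [1, 5, 6, 1, 5, 6, 1, 5, 6, 1, 5, 6, 1, 5, 6, 5, 6, 5, 1, 6, 5, 1, 6, 5, 1, 6, 5, 1, 6, 5, 1, 5], [1, 5, 6, 1, 5, 6, 1, 5, 6, 1, 5, 6, 1, 5, 6, 6, 6, 5, 1, 6, 5, 1, 6, 5, 1, 6, 5, 1, 6, 5, 1, 6]]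

theorem relL_eq : relL = relK := by decide +kernel

/-- all relators fix a point -/
def relAll (u : ℕ) : Bool := (Nat.beq (rel0 u) u && (Nat.beq (rel1 u) u && (Nat.beq (rel2 u) u && (Nat.beq (rel3 u) u && (Nat.beq (rel4 u) u && (Nat.beq (rel5 u) u && (Nat.beq (rel6 u) u && (Nat.beq (rel7 u) u && (Nat.beq (rel8 u) u && (Nat.beq (rel9 u) u && (Nat.beq (rel10 u) u && (Nat.beq (rel11 u) u && (Nat.beq (rel12 u) u && (Nat.beq (rel13 u) u && (Nat.beq (rel14 u) u && (Nat.beq (rel15 u) u && (Nat.beq (rel16 u) u && (Nat.beq (rel17 u) u && (Nat.beq (rel18 u) u && (Nat.beq (rel19 u) u && (Nat.beq (rel20 u) u && (Nat.beq (rel21 u) u && (Nat.beq (rel22 u) u && (Nat.beq (rel23 u) u && (Nat.beq (rel24 u) u && (Nat.beq (rel25 u) u && ((Nat.beq (rel27 u) u && (Nat.beq (rel28 u) u && (Nat.beq (rel29 u) u && (Nat.beq (rel30 u) u && (Nat.beq (rel31 u) u && (Nat.beq (rel32 u) u && (Nat.beq (rel33 u)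 u && true))))))))))))))))))))))))))))))))))

theorem rel_eq (u : ℕ) : (relL.all fun r => Nat.beq (ev rows 7 r u) u) = relAll u := by
  simp only [relL, relAll, List.all_cons, List.all_nil, rel0_eq, rel1_eq, rel2_eq, rel3_eq, rel4_eq, rel5_eq, rel6_eq, rel7_eq, rel8_eq, rel9_eq, rel10_eq, rel11_eq, rel12_eq, rel13_eq, rel14_eq, rel15_eq, rel16_eq, rel17_eq, rel18_eq, rel19_eq, rel20_eq, rel21_eq, rel22_eq, rel23_eq, rel24_eq, rel25_eq, rel27_eq, rel28_eq, rel29_eq, rel30_eq, rel31_eq, rel32_eq, rel33_eq]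

end Cfsg.Agent.Spor.CoAmal.Cert
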